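import Groth.Agent.TwistLib.Leading
import Mathlib.RingTheory.AdjoinRoot
import Mathlib.Algebra.MvPolynomial.Nilpotent

/-! The twisted translate of an irreducible polynomial with unit constant term is finite over the base. -/

set_option autoImplicit false

universe u v

namespace Groth.Agent.TwistLib

open Polynomial

variable {k : Type u} [Field k] {r : ℕ} {K : Type v} [Field K] [Algebra k K]

theorem coeff_zero_eval₂_twist (g : Fin r → K) {N : ℕ} (hN : N ≠ 0) (f : Polynomial (MvPolynomial (Fin r) k)) :
    (Polynomial.eval₂ (twist g N).toRingHom Polynomial.X f).coeff 0 =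
      MvPolynomial.map (algebraMap k K) (f.coeff 0) := by
  have h : (Polynomial.constantCoeff).comp (Polynomial.eval₂RingHom (twist (k := k) g N).toRingHom Polynomial.X) =
      (MvPolynomial.map (algebraMap k K)).comp Polynomial.constantCoeff := by
    refine Polynomial.ringHom_ext (fun a => ?_) (by simp)
    induction a using MvPolynomial.induction_on with
    | C a => simp [twist]
    | add p q hp hq => simp only [map_add, hp, hq]
    | mul_X p i hp =>
      simp only [map_mul, hp]
      congr 1
      simp [twist, Polynomial.coeff_X_pow, hN.symm]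
  exact RingHom.congr_fun h f

/-- The translate is finite over the base and the base injects. -/
theorem exists_finite_injective (f : Polynomial (MvPolynomial (Fin r) k)) (hirr : Irreducible f)
    (h0 : IsUnit (f.coeff 0)) :
    ∃ h : MvPolynomial (Fin r) k, h ≠ 0 ∧ ∀ (K : Type v) [Field K] [Algebra k K] (g : Fin r → K) (N : ℕ),
      f.natDegree < N → MvPolynomial.aeval g h ≠ 0 → ∀ F, F = Polynomial.eval₂ (twist g N).toRingHom Polynomial.X f →
        Module.Finite (MvPolynomial (Fin r) K) (Polynomial (MvPolynomial (Fin r) K) ⧸ Ideal.span {F}) ∧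
        Function.Injective ((Ideal.Quotient.mk (Ideal.span {F})).comp
          (algebraMap (MvPolynomial (Fin r) K) (Polynomial (MvPolynomial (Fin r) K)))) := by
  obtain ⟨c0, hc0⟩ : ∃ c0 : k, f.coeff 0 = MvPolynomial.C c0 :=
    ⟨_, MvPolynomial.totalDegree_eq_zero_iff_eq_C.1 (MvPolynomial.isUnit_iff_totalDegree_of_isReduced.1 h0).2⟩
  have hne : f - Polynomial.C (MvPolynomial.C c0) ≠ 0 := fun h => by
    refine hirr.not_isUnit ?_
    rw [sub_eq_zero.1 h]
    exact (hc0 ▸ h0).map Polynomial.C
  obtain ⟨h1, h1ne, hh1⟩ := exists_leading.{u, v} f hirr.ne_zero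
  obtain ⟨h2, h2ne, hh2⟩ := exists_leading.{u, v} _ hne
  refine ⟨h1 * h2, mul_ne_zero h1ne h2ne, fun K _ _ g N hN hg F hF => ?_⟩
  rw [map_mul] at hg
  have hN' : (f - Polynomial.C (MvPolynomial.C c0)).natDegree < N := by
    rw [Polynomial.natDegree_sub_C]; exact hN
  obtain ⟨c, hc, hlc⟩ := hh1 K g N hN (left_ne_zero_of_mul hg)
  obtain ⟨c', hc', hlc'⟩ := hh2 K g N hN' (right_ne_zero_of_mul hg)
  have hcoeff : F.coeff 0 = MvPolynomial.C (algebraMap k K c0) := by
    rw [hF, coeff_zero_eval₂_twist g (by omega) f, hc0, MvPolynomial.map_C]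
  have hsub : Polynomial.eval₂ (twist (k := k) g N).toRingHom Polynomial.X (f - Polynomial.C (MvPolynomial.C c0)) =
      F - Polynomial.C (MvPolynomial.C (algebraMap k K c0)) := by
    rw [Polynomial.eval₂_sub, Polynomial.eval₂_C, hF]
    congr 1
    exact AlgHom.commutes _ c0
  rw [← hF] at hlc
  rw [hsub] at hlc'
  have hdeg : F.natDegree ≠ 0 := fun h => by
    refine hc' (MvPolynomial.C_eq_zero.1 (show MvPolynomial.C (σ := Fin r) c' = 0 from ?_))
    rw [← hlc', Polynomial.leadingCoeff_eq_zero, ← hcoeff, sub_eq_zero]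
    exact Polynomial.eq_C_of_natDegree_eq_zero h
  have hu : IsUnit F.leadingCoeff := hlc ▸ (isUnit_iff_ne_zero.2 hc).map MvPolynomial.C
  obtain ⟨v, hv⟩ := hu.exists_right_inv
  have hspan : Ideal.span {F} = Ideal.span {F * Polynomial.C v} :=
    (Ideal.span_singleton_mul_right_unit (Polynomial.isUnit_C.2 (IsUnit.of_mul_eq_one_right _ hv)) F).symm
  refine ⟨?_, ?_⟩
  · rw [hspan]
    exact (Polynomial.monic_mul_C_of_leadingCoeff_mul_eq_one hv).finite_quotient
  · refine (injective_iff_map_eq_zero _).2 fun a ha => ?_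
    rw [RingHom.comp_apply, Ideal.Quotient.eq_zero_iff_mem, Ideal.mem_span_singleton] at ha
    by_contra h
    have h' := Polynomial.natDegree_le_of_dvd ha
      (fun h0 => h (Polynomial.C_eq_zero.1 h0))
    exact hdeg (Nat.le_zero.1 (h'.trans (Polynomial.natDegree_C a).le))

end Groth.Agent.TwistLib
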